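import Cfsg.Agent.Lib.Recog.SporBound.Sound

set_option autoImplicit false
set_option maxRecDepth 20000

/-! Generated certificate data, piece 0: the case FourC collapses (owner: helper29). -/

namespace CfsgLib.Recog.SporBound.J3TFourC
open CfsgLib.Recog.SporBound

noncomputable def ft0 : Q (ℕ) := (.leaf 0x2f0000200003f0000300004f000040000cf0000c0000c1000040000c50000400005f0000300006f0000200007f0000800000f000030000350000200002500002000024000000000060000100000f0000000000200003000022000040000520000800009f000070000af000060000bf000070000b2000060000a20000900009200001000013000010000140000000000100000000005000040000c40000a0000b1000090000a7000080000910000700008700006000071000050000670000400005100003000047000020000310000000002700000000010)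
noncomputable def ct0 : Q (ℕ) := (.leaf 0)
noncomputable def st0 : Q (List ℕ) := (.leaf [62, 63, 0x100001000000000000040, 0x100001000000000000041, 0x8000070000600005000040000300002000010000d0000100002000030000400005000060000700008000000001100009000110001e, 0x60000700008000100000900000000050000a0000300017, 0x600005000040000300002000010000d0000100002000030000400005000060000700008000090000a00000000110000b000110001e, 0x6000120000a00011000060001200000000060000b0000100008, 0x6000130000a00000000030000a0000000001, 0x700014000090000000003000090000000007, 0x500004000050000600014000110000100005000060000400017, 0x2000030000400003000160000300002000050000200017, 0x10000d0000100002000170000100004000020000400017, 0xd00018000000000f00000000000000d00018000050000300000000020000b, 0xd0000d000180001900000000180000d0001900000000190000e00000000190000e000000000d00018000190000000018000010001300000000020000d, 0x100001000190000e000190000100004000000000100018, 0x10000c00001000190000e000190000200004000000000400019, 0x2000020001c0000100002000020000000011, 0x1500008000070000600005000040000300002000010000d00001000020000300004000050000600007000150000800007000060000500004000030000200001000000001a000000000000042, 0x10001e000070000000003000070000000007, 0x20001f000060000000003000060000000001, 0x300020000050000000003000050000000007, 0x30001d000030000b00000000040000c0000400019, 0x2200021000040002200000000040000c0000000011,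 0xb000230000b00021000040000b000230000b000210000400022000000000b0000c0000800015, 0x30002100004000240000b000210000400003000020001b00002000030002100004000240000b0002100004000000001200004000010001c, 0x25000210000200025000040000200003000050000000001, 0x26000250000100026000030000200003000040000000007])
noncomputable def et0 : Q (List ℕ) := (.leaf [0x19000000000200000, 0xd0000100000, 0x180000100000, 0x190000f000190000300000, 0x190000e000190000300000, 0xc0000100000, 0x1a0000100000, 0x27000010000200000])

end CfsgLib.Recog.SporBound.J3TFourC
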